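import Groth.Prelude.Def_QuadGrp
import Mathlib.LinearAlgebra.Transvection.Basic

set_option autoImplicit false

open scoped TensorProduct
open CliffordAlgebra

namespace Groth.Agent.QuadCentre

variable {S : Type*} [CommRing S] {W : Type*} [AddCommGroup W] [Module S W]

/-- The linear map `v ↦ v - u⁻¹ B(x,v) x`. -/
noncomputable def reflLin (Qf : QuadraticForm S W) (x : W) (u : Sˣ) : W →ₗ[S] W :=
  LinearMap.transvection ((-(↑u⁻¹ : S)) • QuadraticMap.polarBilin Qf x) x

theorem reflLin_apply (Qf : QuadraticForm S W) (x : W) (u : Sˣ) (v : W) :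
    reflLin Qf x u v = v - ((↑u⁻¹ : S) * QuadraticMap.polar Qf x v) • x := by
  change v + (((-(↑u⁻¹ : S)) • QuadraticMap.polarBilin Qf x) v) • x = _
  rw [LinearMap.smul_apply, QuadraticMap.polarBilin_apply_apply, smul_eq_mul, neg_mul, neg_smul,
    sub_eq_add_neg]

theorem polar_self_eq (Qf : QuadraticForm S W) (x : W) :
    QuadraticMap.polar Qf x x = 2 * Qf x := by
  rw [QuadraticMap.polar_self, two_smul, two_mul]

theorem reflLin_invol (Qf : QuadraticForm S W) (x : W) (u : Sˣ) (hu : Qf x = u) :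
    Function.Involutive (reflLin Qf x u) := by
  intro v
  rw [reflLin_apply, reflLin_apply, QuadraticMap.polar_sub_right, QuadraticMap.polar_smul_right,
    polar_self_eq, hu, smul_eq_mul, sub_sub, ← add_smul]
  have h : (↑u⁻¹ : S) * u = 1 := Units.inv_mul u
  have : (↑u⁻¹ : S) * QuadraticMap.polar Qf x v + (↑u⁻¹ : S) * (QuadraticMap.polar Qf x v -
      (↑u⁻¹ : S) * QuadraticMap.polar Qf x v * (2 * (u : S))) = 0 := by
    linear_combination (-2 * (↑u⁻¹ : S) * QuadraticMap.polar Qf x v) * h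
  rw [this, zero_smul, sub_zero]

/-- The reflection in an anisotropic vector. -/
noncomputable def refl (Qf : QuadraticForm S W) (x : W) (u : Sˣ) (hu : Qf x = u) : W ≃ₗ[S] W :=
  LinearEquiv.ofInvolutive (reflLin Qf x u) (reflLin_invol Qf x u hu)

variable (Qf : QuadraticForm S W) (x : W) (u : Sˣ) (hu : Qf x = u)

theorem refl_apply (v : W) :
    refl Qf x u hu v = v - ((↑u⁻¹ : S) * QuadraticMap.polar Qf x v) • x :=
  reflLin_apply Qf x u v

theorem refl_refl (v : W) : refl Qf x u hu (refl Qf x u hu v) = v :=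
  reflLin_invol Qf x u hu v

theorem refl_mem_O : refl Qf x u hu ∈ QuadGrp.O Qf := by
  intro v
  rw [refl_apply, sub_eq_add_neg, ← neg_smul, QuadraticMap.map_add Qf, QuadraticMap.map_smul,
    QuadraticMap.polar_smul_right, QuadraticMap.polar_comm Qf v x, hu, smul_eq_mul, smul_eq_mul]
  have h : (↑u⁻¹ : S) * u = 1 := Units.inv_mul u
  linear_combination ((↑u⁻¹ : S) * QuadraticMap.polar Qf x v ^ 2) * h

theorem det_refl [Module.Free S W] [Module.Finite S W] :
    LinearEquiv.det (refl Qf x u hu) = -1 := by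
  rw [← Units.val_inj, LinearEquiv.coe_det]
  have : (refl Qf x u hu).toLinearMap = reflLin Qf x u := rfl
  rw [this, reflLin, LinearMap.transvection.det, LinearMap.smul_apply,
    QuadraticMap.polarBilin_apply_apply, polar_self_eq, hu, smul_eq_mul]
  have h : (↑u⁻¹ : S) * u = 1 := Units.inv_mul u
  simp only [Units.val_neg, Units.val_one]
  linear_combination (-2 : S) * h

theorem det_refl_mul [Module.Free S W] [Module.Finite S W]
    (y : W) (t : Sˣ) (ht : Qf y = t) :
    LinearEquiv.det (refl Qf x u hu * refl Qf y t ht) = 1 := by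
  rw [map_mul, det_refl, det_refl, neg_mul_neg, one_mul]

/-- Conjugation relation in the Clifford algebra. -/
theorem ι_refl (v : W) :
    ι Qf (refl Qf x u hu v) = -((↑u⁻¹ : S) • (ι Qf x * ι Qf v * ι Qf x)) := by
  rw [ι_mul_ι_mul_ι, hu, ← map_smul, ← map_neg]
  congr 1
  rw [refl_apply, smul_sub, neg_sub, smul_smul, smul_smul, Units.inv_mul, one_smul]

theorem ι_mul_ι_mul_swap (a b : W) :
    ι Qf a * ι Qf b * (ι Qf b * ι Qf a) = (Qf b * Qf a) • (1 : CliffordAlgebra Qf) := by
  rw [mul_assoc (ι Qf a), ← mul_assoc (ι Qf b), ι_sq_scalar, ← Algebra.smul_def, mul_smul_comm,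
    ι_sq_scalar, Algebra.algebraMap_eq_smul_one, smul_smul]

theorem inv_mul_inv (t : Sˣ) : (↑t⁻¹ : S) * (↑u⁻¹ : S) * ((t : S) * u) = 1 := by
  have e1 : (↑u⁻¹ : S) * u = 1 := Units.inv_mul u
  have e2 : (↑t⁻¹ : S) * t = 1 := Units.inv_mul t
  linear_combination ((↑t⁻¹ : S) * t) * e1 + e2

theorem map_refl_mul_eq_conj (y : W) (t : Sˣ) (ht : Qf y = t)
    (h : refl Qf x u hu * refl Qf y t ht ∈ QuadGrp.O Qf) (z : CliffordAlgebra Qf) :
    CliffordAlgebra.map (QuadGrp.isometryOfMem Qf _ h) z =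
      (ι Qf x * ι Qf y) * z * (((↑t⁻¹ : S) * (↑u⁻¹ : S)) • (ι Qf y * ι Qf x)) := by
  set η := ι Qf x * ι Qf y with hη
  set η' := ((↑t⁻¹ : S) * (↑u⁻¹ : S)) • (ι Qf y * ι Qf x) with hη'
  have h1 : η' * η = 1 := by
    rw [hη, hη', smul_mul_assoc, ι_mul_ι_mul_swap, hu, ht, smul_smul, mul_comm (u : S) (t : S),
      inv_mul_inv, one_smul]
  have h2 : η * η' = 1 := by
    rw [hη, hη', mul_smul_comm, ι_mul_ι_mul_swap, hu, ht, smul_smul, inv_mul_inv, one_smul]
  induction z using CliffordAlgebra.induction with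
  | algebraMap r =>
    rw [AlgHom.commutes, ← Algebra.commutes, mul_assoc, h2, mul_one]
  | ι v =>
    rw [CliffordAlgebra.map_apply_ι]
    have hv : QuadGrp.isometryOfMem Qf _ h v = refl Qf x u hu (refl Qf y t ht v) := rfl
    rw [hv, ι_refl, ι_refl, hη, hη']
    simp only [mul_neg, neg_mul, neg_neg, smul_neg, mul_smul_comm, smul_mul_assoc, mul_assoc,
      smul_smul]
    rw [mul_comm (↑u⁻¹ : S)]
  | mul a b ha hb =>
    rw [map_mul, ha, hb]
    calc η * a * η' * (η * b * η') = η * a * (η' * η) * b * η' := by simp only [mul_assoc]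
      _ = η * (a * b) * η' := by rw [h1, mul_one]; simp only [mul_assoc]
  | add a b ha hb =>
    rw [map_add, ha, hb, mul_add, add_mul]

theorem refl_mul_mem_SOeven (y : W) (t : Sˣ) (ht : Qf y = t) :
    refl Qf x u hu * refl Qf y t ht ∈ QuadGrp.SOeven Qf := by
  refine ⟨mul_mem (refl_mem_O Qf x u hu) (refl_mem_O Qf y t ht), fun z hz => ?_⟩
  rw [map_refl_mul_eq_conj]
  have hmem : ι Qf x * ι Qf y ∈ CliffordAlgebra.even Qf :=
    ι_mul_ι_mem_evenOdd_zero Qf x y
  have hc := Subalgebra.mem_center_iff.mp hz ⟨_, hmem⟩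
  have hc' : ι Qf x * ι Qf y * (z : CliffordAlgebra Qf) = z * (ι Qf x * ι Qf y) :=
    congrArg Subtype.val hc
  rw [hc', mul_assoc, mul_smul_comm, ι_mul_ι_mul_swap, hu, ht, smul_smul, inv_mul_inv, one_smul,
    mul_one]

theorem refl_mul_mem_SO [Module.Free S W] [Module.Finite S W] {n : ℕ}
    (b : Module.Basis (Fin n) S W) (hn : Even n) (y : W) (t : Sˣ) (ht : Qf y = t) :
    refl Qf x u hu * refl Qf y t ht ∈ QuadGrp.SO Qf := by
  rcases subsingleton_or_nontrivial S with hS | hS
  · haveI : Subsingleton W := Module.subsingleton S W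
    have : refl Qf x u hu * refl Qf y t ht = 1 := LinearEquiv.ext fun v => Subsingleton.elim _ _
    rw [this]
    exact one_mem _
  · unfold QuadGrp.SO
    rw [if_pos (by rwa [Module.finrank_eq_card_basis b, Fintype.card_fin])]
    exact refl_mul_mem_SOeven Qf x u hu y t ht

end Groth.Agent.QuadCentre
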