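import Groth.Agent.QuadCentre.Regular
import Groth.Agent.QuadCentre.Refl

set_option autoImplicit false
universe u

open scoped TensorProduct

namespace Groth.Agent.QuadCentre

open MvPolynomial

variable {R : Type u} [CommRing R] {n : ℕ} (Q : QuadraticForm R (Fin n → R))
  (g : (Fin n → R) ≃ₗ[R] (Fin n → R))

/-- Standard basis vector. -/
def stdVec (R : Type u) [CommRing R] {n : ℕ} (k : Fin n) : Fin n → R := Pi.single k 1

/-- Polar matrix. -/
noncomputable def polMat (k l : Fin n) : R := QuadraticMap.polar Q (stdVec R k) (stdVec R l)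

theorem polMat_comm (k l : Fin n) : polMat Q k l = polMat Q l k :=
  QuadraticMap.polar_comm _ _ _

/-- Matrix of `g`. -/
def gMat (i k : Fin n) : R := g (stdVec R k) i

theorem sum_stdVec (v : Fin n → R) : ∑ k, v k • stdVec R k = v := by
  ext i
  simp [stdVec, Finset.sum_apply, Pi.single_apply]

theorem g_apply (v : Fin n → R) (i : Fin n) : g v i = ∑ k, v k * gMat g i k := by
  conv_lhs => rw [← sum_stdVec v]
  simp [map_sum, map_smul, Finset.sum_apply, gMat]

/-- `q` as a polynomial. -/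
noncomputable def qpol : MvPolynomial (Fin n) R :=
  ∑ k, ∑ l, C (QuadGrp.bilinLift Q (stdVec R k) (stdVec R l)) * X k * X l

/-- `B(x, e_k)`. -/
noncomputable def Bpol (k : Fin n) : MvPolynomial (Fin n) R :=
  ∑ l, C (polMat Q l k) * X l

/-- `(g x)_i`. -/
noncomputable def Lpol (i : Fin n) : MvPolynomial (Fin n) R :=
  ∑ k, C (gMat g i k) * X k

/-- `B(x, g e_k)`. -/
noncomputable def Gpol (k : Fin n) : MvPolynomial (Fin n) R :=
  ∑ p, C (gMat g p k) * Bpol Q p

/-- `B(x, g x)`. -/
noncomputable def Lampol : MvPolynomial (Fin n) R := ∑ k, X k * Gpol Q g k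

/-- The wedge of `g x` and `x`. -/
noncomputable def Wpol (i j : Fin n) : MvPolynomial (Fin n) R :=
  Lpol g i * X j - Lpol g j * X i

section A

variable (A : Type u) [CommRing A] [Algebra R A]

/-- The base-changed standard basis. -/
noncomputable def bA (R : Type u) [CommRing R] (n : ℕ) (A : Type u) [CommRing A] [Algebra R A] :
    Module.Basis (Fin n) A (A ⊗[R] (Fin n → R)) :=
  (Pi.basisFun R (Fin n)).baseChange A

theorem bA_apply (k : Fin n) : bA R n A k = 1 ⊗ₜ[R] stdVec R k := by
  simp [bA, stdVec]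

theorem bA_repr_tmul (v : Fin n → R) (i : Fin n) :
    (bA R n A).repr ((1 : A) ⊗ₜ[R] v) i = algebraMap R A (v i) := by
  simp [bA, Algebra.algebraMap_eq_smul_one]

/-- The vector with coordinates `c`. -/
noncomputable def vecA (c : Fin n → A) : A ⊗[R] (Fin n → R) := ∑ k, c k • bA R n A k

theorem vecA_repr (c : Fin n → A) (i : Fin n) : (bA R n A).repr (vecA A c) i = c i := by
  rw [vecA, Module.Basis.repr_sum_self]

theorem qA_tmul (v : Fin n → R) :
    QuadGrp.baseChangeForm A Q ((1 : A) ⊗ₜ[R] v) = algebraMap R A (Q v) := by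
  simp [QuadGrp.baseChangeForm, QuadGrp.baseChange_tmul, Algebra.algebraMap_eq_smul_one]

theorem polarA_tmul (v w : Fin n → R) :
    QuadraticMap.polar (QuadGrp.baseChangeForm A Q) ((1 : A) ⊗ₜ[R] v) ((1 : A) ⊗ₜ[R] w) =
      algebraMap R A (QuadraticMap.polar Q v w) := by
  simp only [QuadraticMap.polar, ← TensorProduct.tmul_add, qA_tmul, map_sub]

theorem qA_vecA (c : Fin n → A) :
    QuadGrp.baseChangeForm A Q (vecA A c) = aeval c (qpol Q) := by
  rw [QuadGrp.baseChangeForm, LinearMap.compQuadraticMap_apply, QuadGrp.baseChange,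
    LinearMap.BilinMap.toQuadraticMap_apply, vecA, qpol]
  simp only [map_sum, map_smul, LinearMap.sum_apply, LinearMap.smul_apply, bA_apply,
    LinearMap.BilinMap.baseChange_tmul, LinearEquiv.coe_coe, TensorProduct.AlgebraTensorModule.rid_tmul,
    map_mul, aeval_C, aeval_X, smul_eq_mul, one_mul]
  rw [Finset.sum_comm]
  refine Finset.sum_congr rfl fun k _ => ?_
  rw [Finset.mul_sum]
  refine Finset.sum_congr rfl fun l _ => ?_
  rw [Algebra.algebraMap_eq_smul_one]
  simp only [Algebra.smul_mul_assoc, Algebra.mul_smul_comm, one_mul, mul_one]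
  try rw [mul_comm (c k)]

theorem polar_sum_right (Qf : QuadraticForm A (A ⊗[R] (Fin n → R))) (x : A ⊗[R] (Fin n → R))
    (c : Fin n → A) (v : Fin n → A ⊗[R] (Fin n → R)) :
    QuadraticMap.polar Qf x (∑ k, c k • v k) = ∑ k, c k * QuadraticMap.polar Qf x (v k) := by
  simp only [← QuadraticMap.polarBilin_apply_apply, map_sum, map_smul, smul_eq_mul]

theorem polar_vecA_tmul (c : Fin n → A) (v : Fin n → R) :
    QuadraticMap.polar (QuadGrp.baseChangeForm A Q) (vecA A c) ((1 : A) ⊗ₜ[R] v) =
      ∑ l, c l * algebraMap R A (QuadraticMap.polar Q (stdVec R l) v) := by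
  rw [QuadraticMap.polar_comm, vecA, polar_sum_right]
  refine Finset.sum_congr rfl fun l _ => ?_
  rw [bA_apply, polarA_tmul, QuadraticMap.polar_comm]

theorem polar_vecA_basis (c : Fin n → A) (k : Fin n) :
    QuadraticMap.polar (QuadGrp.baseChangeForm A Q) (vecA A c) (bA R n A k) =
      aeval c (Bpol Q k) := by
  rw [bA_apply, polar_vecA_tmul, Bpol]
  simp only [map_sum, map_mul, aeval_C, aeval_X, polMat, mul_comm]

theorem polar_vecA_g_basis (c : Fin n → A) (k : Fin n) :
    QuadraticMap.polar (QuadGrp.baseChangeForm A Q) (vecA A c)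
      (g.baseChange R A (Fin n → R) (Fin n → R) (bA R n A k)) = aeval c (Gpol Q g k) := by
  rw [bA_apply, LinearEquiv.baseChange_tmul]
  conv_lhs => rw [← sum_stdVec (g (stdVec R k)), TensorProduct.tmul_sum]
  simp only [TensorProduct.tmul_smul, ← algebraMap_smul A (g (stdVec R k) _), ← bA_apply]
  rw [polar_sum_right, Gpol, map_sum]
  refine Finset.sum_congr rfl fun p _ => ?_
  rw [polar_vecA_basis, map_mul, aeval_C, gMat]

theorem ghat_vecA (c : Fin n → A) :
    g.baseChange R A (Fin n → R) (Fin n → R) (vecA A c) =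
      ∑ k, c k • ((1 : A) ⊗ₜ[R] g (stdVec R k)) := by
  simp [vecA, map_sum, map_smul, bA_apply]

theorem repr_g_vecA (c : Fin n → A) (i : Fin n) :
    (bA R n A).repr (g.baseChange R A (Fin n → R) (Fin n → R) (vecA A c)) i =
      aeval c (Lpol g i) := by
  rw [ghat_vecA, map_sum, Finset.sum_apply', Lpol, map_sum]
  refine Finset.sum_congr rfl fun k _ => ?_
  rw [map_smul, Finsupp.smul_apply, bA_repr_tmul, smul_eq_mul, map_mul, aeval_C, aeval_X, gMat,
    mul_comm]

theorem polar_vecA_g_vecA (c : Fin n → A) :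
    QuadraticMap.polar (QuadGrp.baseChangeForm A Q) (vecA A c)
      (g.baseChange R A (Fin n → R) (Fin n → R) (vecA A c)) = aeval c (Lampol Q g) := by
  conv_lhs => arg 3; rw [vecA, map_sum]
  simp only [map_smul]
  rw [polar_sum_right, Lampol, map_sum]
  refine Finset.sum_congr rfl fun k _ => ?_
  rw [polar_vecA_g_basis, map_mul, aeval_X]

theorem mem_O_baseChange (h : (A ⊗[R] (Fin n → R)) ≃ₗ[A] (A ⊗[R] (Fin n → R)))
    (hh : h ∈ QuadGrp.O (QuadGrp.baseChangeForm A Q)) :
    h ∈ QuadGrp.O (QuadGrp.baseChange A Q) := fun v =>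
  (TensorProduct.AlgebraTensorModule.rid R A A).injective (hh v)

end A

section content

variable (hB : ∀ m : Ideal R, m.IsMaximal → ∃ k l, polMat Q k l ∉ m)
include hB

theorem exists_value_notMem (m : Ideal R) (hm : m.IsMaximal) : ∃ v, Q v ∉ m := by
  obtain ⟨k, l, h⟩ := hB m hm
  by_contra hc
  push Not at hc
  exact h (sub_mem (sub_mem (hc _) (hc _)) (hc _))

omit hB in
theorem eval_qpol (v : Fin n → R) : MvPolynomial.eval v (qpol Q) = Q v := by
  have h := qA_vecA Q R v
  have hv : vecA R v = (1 : R) ⊗ₜ[R] v := by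
    conv_rhs => rw [← sum_stdVec v, TensorProduct.tmul_sum]
    simp only [vecA, bA_apply, TensorProduct.tmul_smul]
  rw [hv, qA_tmul] at h
  simpa using h.symm

theorem qpol_content (m : Ideal R) (hm : m.IsMaximal) : ∃ d, coeff d (qpol Q) ∉ m := by
  obtain ⟨v, hv⟩ := exists_value_notMem Q hB m hm
  exact exists_coeff_notMem_of_eval _ m v (by rwa [eval_qpol Q])

theorem Bpol_content (m : Ideal R) (hm : m.IsMaximal) : ∃ k d, coeff d (Bpol Q k) ∉ m := by
  obtain ⟨k, l, h⟩ := hB m hm
  refine ⟨l, exists_coeff_notMem_of_eval _ m (stdVec R k) ?_⟩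
  simpa [Bpol, stdVec, Pi.single_apply] using h

theorem scalar_sq_one (c : R) (hg : g ∈ QuadGrp.O Q) (hc : ∀ v, g v = c • v) : c * c = 1 := by
  by_contra hne
  have h0 : ∀ v, (c * c - 1) * Q v = 0 := by
    intro v
    have := hg v
    rw [hc, QuadraticMap.map_smul, smul_eq_mul] at this
    rw [sub_mul, one_mul, this, sub_self]
  have hann : (Ideal.span {c * c - 1}).annihilator ≠ ⊤ := by
    intro h
    rw [Submodule.annihilator_eq_top_iff, Ideal.span_singleton_eq_bot, sub_eq_zero] at h
    exact hne h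
  obtain ⟨m, hm, hle⟩ := Ideal.exists_le_maximal _ hann
  obtain ⟨v, hv⟩ := exists_value_notMem Q hB m hm
  refine hv (hle ?_)
  rw [Submodule.mem_annihilator_span_singleton, smul_eq_mul, mul_comm]
  exact h0 v

theorem scalar_of_Bpol_mul_Wpol (hg : g ∈ QuadGrp.O Q) (hn : 0 < n)
    (h : ∀ k i j, Bpol Q k * Wpol g i j = 0) :
    ∃ c : R, c * c = 1 ∧ ∀ v, g v = c • v := by
  have hW : ∀ i j, Wpol g i j = 0 := fun i j =>
    eq_zero_of_unit_content (Bpol Q) _ (Bpol_content Q hB) (fun k => h k i j)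
  have hoff : ∀ i j, i ≠ j → gMat g i j = 0 := by
    intro i j hij
    have := congrArg (MvPolynomial.eval (stdVec R j)) (hW i j)
    simpa [Wpol, Lpol, stdVec, Pi.single_apply, hij] using this
  have hdiag : ∀ i j, gMat g i i = gMat g j j := by
    intro i j
    by_cases hij : i = j
    · rw [hij]
    have := congrArg (MvPolynomial.eval (stdVec R i + stdVec R j)) (hW i j)
    simpa [Wpol, Lpol, stdVec, Pi.single_apply, hij, Ne.symm hij, mul_add, add_mul,
      Finset.sum_add_distrib, hoff i j hij, hoff j i (Ne.symm hij), sub_eq_zero] using this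
  have hs : ∀ v, g v = gMat g ⟨0, hn⟩ ⟨0, hn⟩ • v := by
    intro v
    ext i
    rw [g_apply, Pi.smul_apply, smul_eq_mul, hdiag ⟨0, hn⟩ i,
      Finset.sum_eq_single i (fun k _ hk => by rw [hoff i k (Ne.symm hk), mul_zero]) (by simp),
      mul_comm]
  exact ⟨_, scalar_sq_one Q g hB _ hg hs, hs⟩

end content

end Groth.Agent.QuadCentre
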