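import Groth.Prelude.Def_QuadGrp
import Mathlib.LinearAlgebra.Matrix.SesquilinearForm
import Mathlib.Algebra.CharP.Two
import Mathlib.Algebra.MvPolynomial.Variables
import Mathlib.GroupTheory.Perm.Sign
import Mathlib.RingTheory.MvPolynomial.Basic

set_option autoImplicit false

namespace Groth.Agent.QuadCentre

open Matrix

variable {S : Type*} [CommRing S] {n : ℕ}

/-- Polar matrix from a coefficient table. -/
def polA (a : Sym2 (Fin n) → S) : Matrix (Fin n) (Fin n) S :=
  Matrix.of fun i j => if i = j then 2 * a (Sym2.mk i j) else a (Sym2.mk i j)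

/-- Triangular matrix from a coefficient table. -/
def triA (a : Sym2 (Fin n) → S) : Matrix (Fin n) (Fin n) S :=
  Matrix.of fun i j => if i = j then a (Sym2.mk i j) else if i < j then a (Sym2.mk i j) else 0

theorem triA_add_transpose (a : Sym2 (Fin n) → S) : triA a + (triA a)ᵀ = polA a := by
  ext i j
  simp only [triA, polA, Matrix.add_apply, transpose_apply, of_apply]
  rcases lt_trichotomy i j with h | rfl | h
  · simp [h.ne, h.ne', h, h.not_gt]
  · simp [two_mul]
  · simp [h.ne, h.ne', h, h.not_gt, Sym2.eq_swap]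

theorem polA_transpose (a : Sym2 (Fin n) → S) : (polA a)ᵀ = polA a := by
  rw [← triA_add_transpose, transpose_add, transpose_transpose, add_comm]

/-- Coefficient table of the transformed form. -/
def transA (a : Sym2 (Fin n) → S) (G : Matrix (Fin n) (Fin n) S) : Sym2 (Fin n) → S :=
  Sym2.lift ⟨fun i j => if i = j then (Gᵀ * triA a * G) i i else (Gᵀ * polA a * G) i j, fun i j => by
    by_cases h : i = j
    · subst h; rfl
    · dsimp only
      rw [if_neg h, if_neg (Ne.symm h)]
      conv_rhs => rw [← transpose_apply (Gᵀ * polA a * G) i j]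
      rw [transpose_mul, transpose_mul, transpose_transpose, polA_transpose, Matrix.mul_assoc]⟩

theorem transA_mk (a : Sym2 (Fin n) → S) (G : Matrix (Fin n) (Fin n) S) (i j : Fin n) :
    transA a G (Sym2.mk i j) =
      if i = j then (Gᵀ * triA a * G) i i else (Gᵀ * polA a * G) i j := rfl

theorem polA_transA (a : Sym2 (Fin n) → S) (G : Matrix (Fin n) (Fin n) S) :
    polA (transA a G) = Gᵀ * polA a * G := by
  ext i j
  simp only [polA, of_apply, transA_mk]
  split_ifs with h
  · subst h
    change 2 * (Gᵀ * triA a * G) i i = (Gᵀ * polA a * G) i i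
    have e : (Gᵀ * (triA a)ᵀ * G) i i = (Gᵀ * triA a * G) i i := by
      rw [show Gᵀ * (triA a)ᵀ * G = (Gᵀ * triA a * G)ᵀ by
        rw [transpose_mul, transpose_mul, transpose_transpose, Matrix.mul_assoc], transpose_apply]
    rw [← triA_add_transpose, Matrix.mul_add, Matrix.add_mul, Matrix.add_apply, e, two_mul]
  · rfl

/-- Half-discriminant of a table. -/
noncomputable def hdA (a : Sym2 (Fin n) → S) : S :=
  MvPolynomial.eval₂ (Int.castRingHom S) a (QuadGrp.halfDiscUniv n)

theorem det_symm_odd_eq_zero_mod_two {T : Type*} [CommRing T] [CharP T 2]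
    (M : Matrix (Fin n) (Fin n) T) (hsymm : Mᵀ = M) (hdiag : ∀ i, M i i = 0) (hn : Odd n) :
    M.det = 0 := by
  rw [Matrix.det_apply']
  refine Finset.sum_involution (fun σ _ => σ⁻¹) ?_ ?_ (fun σ _ => Finset.mem_univ _)
    (fun σ _ => inv_inv σ)
  · intro σ _
    have e : ∏ i, M (σ⁻¹ i) i = ∏ i, M (σ i) i := by
      rw [← Equiv.prod_comp σ fun i => M (σ⁻¹ i) i]
      refine Finset.prod_congr rfl fun i _ => ?_
      rw [show σ⁻¹ (σ i) = i from σ.symm_apply_apply i]
      conv_lhs => rw [← hsymm, transpose_apply]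
    rw [Equiv.Perm.sign_inv, e, CharTwo.add_self_eq_zero]
  · intro σ _ hne hinv
    apply hne
    have hfix : ∃ i, σ i = i := by
      by_contra hno
      push Not at hno
      have hev : Even σ.support.card := by
        have hsq : σ ^ 2 = 1 := by rw [pow_two]; exact mul_eq_one_iff_eq_inv.mpr hinv.symm
        have h0 : 2 ∣ (Finset.univ.filter fun x => σ x ≠ x).card := by
          have := Equiv.Perm.sum_cycleType σ
          rw [show (Finset.univ.filter fun x => σ x ≠ x) = σ.support from rfl, ← this]
          refine Multiset.dvd_sum fun x hx => ?_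
          have h2 : orderOf σ ∣ 2 := orderOf_dvd_of_pow_eq_one hsq
          have := (Equiv.Perm.dvd_of_mem_cycleType hx).trans h2
          have h1 := Equiv.Perm.two_le_of_mem_cycleType hx
          exact (Nat.le_antisymm (Nat.le_of_dvd (by norm_num) this) h1).symm.dvd
        exact even_iff_two_dvd.mpr h0
      rw [show σ.support = Finset.univ from Finset.eq_univ_iff_forall.mpr fun i =>
        Equiv.Perm.mem_support.mpr (hno i), Finset.card_univ, Fintype.card_fin] at hev
      exact (Nat.not_even_iff_odd.mpr hn) hev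
    obtain ⟨i, hi⟩ := hfix
    rw [Finset.prod_eq_zero (Finset.mem_univ i) (by rw [hi, hdiag]), mul_zero]

theorem two_mul_halfDiscUniv (hn : Odd n) :
    2 * QuadGrp.halfDiscUniv n = QuadGrp.discUniv n := by
  have hmap : MvPolynomial.map (Int.castRingHom (ZMod 2)) (QuadGrp.discUniv n) = 0 := by
    rw [QuadGrp.discUniv, RingHom.map_det]
    apply det_symm_odd_eq_zero_mod_two _ ?_ ?_ hn
    · ext i j
      simp only [transpose_apply, RingHom.mapMatrix_apply, Matrix.map_apply, QuadGrp.univPolarMat,
        of_apply]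
      by_cases h : i = j
      · subst h; rfl
      · rw [if_neg h, if_neg (Ne.symm h), Sym2.eq_swap]
    · intro i
      simp only [RingHom.mapMatrix_apply, Matrix.map_apply, QuadGrp.univPolarMat, of_apply, if_pos,
        map_mul, map_ofNat]
      rw [CharTwo.two_eq_zero (R := MvPolynomial (Sym2 (Fin n)) (ZMod 2)), zero_mul]
  ext s
  rw [show (2 : MvPolynomial (Sym2 (Fin n)) ℤ) = MvPolynomial.C 2 from (map_ofNat _ 2).symm,
    MvPolynomial.coeff_C_mul, QuadGrp.coeff_halfDiscUniv]
  refine Int.mul_ediv_cancel' ?_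
  have := congrArg (MvPolynomial.coeff s) hmap
  rw [MvPolynomial.coeff_map, MvPolynomial.coeff_zero, eq_intCast] at this
  exact (ZMod.intCast_zmod_eq_zero_iff_dvd _ 2).mp this

theorem two_mul_hdA (hn : Odd n) (a : Sym2 (Fin n) → S) : 2 * hdA a = (polA a).det := by
  have h := congrArg (MvPolynomial.eval₂Hom (Int.castRingHom S) a) (two_mul_halfDiscUniv hn)
  rw [map_mul, map_ofNat, QuadGrp.discUniv, RingHom.map_det] at h
  refine h.trans (congrArg Matrix.det ?_)
  ext i j
  simp only [RingHom.mapMatrix_apply, Matrix.map_apply, QuadGrp.univPolarMat, polA, of_apply]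
  split_ifs <;> simp

section natural

variable {T : Type*} [CommRing T] (φ : S →+* T) (a : Sym2 (Fin n) → S)

theorem hdA_map : φ (hdA a) = hdA (φ ∘ a) := by
  rw [hdA, hdA, MvPolynomial.eval₂_comp_left φ, RingHom.ext_int (φ.comp (Int.castRingHom S))
    (Int.castRingHom T)]

theorem polA_map : (polA a).map φ = polA (φ ∘ a) := by
  ext i j
  simp only [polA, Matrix.map_apply, of_apply, Function.comp_apply]
  split_ifs <;> simp [map_ofNat]

theorem triA_map : (triA a).map φ = triA (φ ∘ a) := by
  ext i j
  simp only [triA, Matrix.map_apply, of_apply, Function.comp_apply]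
  split_ifs <;> simp

theorem transA_map (G : Matrix (Fin n) (Fin n) S) :
    φ ∘ transA a G = transA (φ ∘ a) (G.map φ) := by
  funext v
  induction v using Sym2.inductionOn with
  | hf i j =>
    simp only [Function.comp_apply, transA_mk]
    split_ifs
    · rw [← triA_map, ← Matrix.transpose_map, ← Matrix.map_mul, ← Matrix.map_mul, Matrix.map_apply]
    · rw [← polA_map, ← Matrix.transpose_map, ← Matrix.map_mul, ← Matrix.map_mul, Matrix.map_apply]

end natural

theorem hdA_transA (hn : Odd n) (a : Sym2 (Fin n) → S) (G : Matrix (Fin n) (Fin n) S) :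
    hdA (transA a G) = G.det ^ 2 * hdA a := by
  let A : Sym2 (Fin n) → (MvPolynomial (Sym2 (Fin n) ⊕ Fin n × Fin n) ℤ) := fun v => MvPolynomial.X (Sum.inl v)
  let H : Matrix (Fin n) (Fin n) (MvPolynomial (Sym2 (Fin n) ⊕ Fin n × Fin n) ℤ) := Matrix.of fun i j => MvPolynomial.X (Sum.inr (i, j))
  have huniv : hdA (transA A H) = H.det ^ 2 * hdA A := by
    have h2 : (2 : (MvPolynomial (Sym2 (Fin n) ⊕ Fin n × Fin n) ℤ)) ≠ 0 := two_ne_zero
    apply mul_left_cancel₀ h2
    rw [two_mul_hdA hn, polA_transA, det_mul, det_mul, det_transpose, ← two_mul_hdA hn]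
    ring
  let φ : (MvPolynomial (Sym2 (Fin n) ⊕ Fin n × Fin n) ℤ) →+* S := MvPolynomial.eval₂Hom (Int.castRingHom S)
    (Sum.elim a fun p => G p.1 p.2)
  have hA : φ ∘ A = a := by funext v; simp [φ, A]
  have hH : H.map φ = G := by ext i j; simp [φ, H]
  have := congrArg φ huniv
  rw [map_mul, map_pow, RingHom.map_det, hdA_map, hdA_map, transA_map, hA,
    RingHom.mapMatrix_apply, hH] at this
  exact this

section form

variable {M : Type*} [AddCommGroup M] [Module S M] (b : Module.Basis (Fin n) S M)
  (Q : QuadraticForm S M)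

theorem coeffs_comp (g : M →ₗ[S] M) :
    QuadGrp.coeffs b (LinearEquiv.refl S S) (Q.comp g) =
      transA (QuadGrp.coeffs b (LinearEquiv.refl S S) Q) (LinearMap.toMatrix b b g) := by
  set β := Q.toBilin b with hβ
  have hval : ∀ x, Q x = β x x := fun x => by
    conv_lhs => rw [← QuadraticMap.toQuadraticMap_toBilin Q b, LinearMap.BilinMap.toQuadraticMap_apply]
  have hT : LinearMap.toMatrix₂ b b β = triA (QuadGrp.coeffs b (LinearEquiv.refl S S) Q) := by
    ext i j
    rw [LinearMap.toMatrix₂_apply, hβ, QuadraticMap.toBilin_apply]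
    simp only [triA, of_apply, QuadGrp.coeffs_mk, LinearEquiv.refl_apply]
    split_ifs <;> rfl
  have hM := LinearMap.toMatrix₂_compl₁₂ b b b b β g g
  rw [hT] at hM
  funext v
  induction v using Sym2.inductionOn with
  | hf i j =>
    simp only [QuadGrp.coeffs_mk, transA_mk, LinearEquiv.refl_apply]
    split_ifs with h
    · rw [← hM, LinearMap.toMatrix₂_apply, LinearMap.compl₁₂_apply, QuadraticMap.comp_apply, hval]
    · have e1 : ((LinearMap.toMatrix b b g)ᵀ *
          (triA (QuadGrp.coeffs b (LinearEquiv.refl S S) Q))ᵀ * LinearMap.toMatrix b b g) i j =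
          β (g (b j)) (g (b i)) := by
        rw [← transpose_apply (_ * _ * _) j i, transpose_mul, transpose_mul, transpose_transpose,
          transpose_transpose, ← Matrix.mul_assoc, ← hM, LinearMap.toMatrix₂_apply,
          LinearMap.compl₁₂_apply]
      rw [← triA_add_transpose, Matrix.mul_add, Matrix.add_mul, Matrix.add_apply, e1, ← hM,
        LinearMap.toMatrix₂_apply, LinearMap.compl₁₂_apply]
      simp only [QuadraticMap.polar, QuadraticMap.comp_apply, map_add, hval,
        LinearMap.add_apply]
      ring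

theorem halfDisc_comp (hn : Odd n) (g : M →ₗ[S] M) :
    QuadGrp.halfDisc b (LinearEquiv.refl S S) (Q.comp g) =
      LinearMap.det g ^ 2 * QuadGrp.halfDisc b (LinearEquiv.refl S S) Q := by
  rw [← LinearMap.det_toMatrix b]
  exact (congrArg hdA (coeffs_comp b Q g)).trans (hdA_transA hn _ _)

end form

end Groth.Agent.QuadCentre
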