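import Groth.Agent.QuadCentre.Coord
import Mathlib.RingTheory.Localization.Away.Basic

set_option autoImplicit false
universe u

open scoped TensorProduct

namespace Groth.Agent.QuadCentre

open MvPolynomial

variable {R : Type u} [CommRing R] {n : ℕ} (Q : QuadraticForm R (Fin n → R))
  (g : (Fin n → R) ≃ₗ[R] (Fin n → R))

/-- `g` commutes with all reflections over all algebras. -/
def CommRefl : Prop :=
  ∀ (A : Type u) [CommRing A] [Algebra R A] (x : A ⊗[R] (Fin n → R)) (u : Aˣ)
    (hu : QuadGrp.baseChangeForm A Q x = u) (v : A ⊗[R] (Fin n → R)),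
    g.baseChange R A (Fin n → R) (Fin n → R) (refl (QuadGrp.baseChangeForm A Q) x u hu v) =
      refl (QuadGrp.baseChangeForm A Q) x u hu (g.baseChange R A (Fin n → R) (Fin n → R) v)

/-- `g` commutes with all products of two reflections over all algebras. -/
def CommPairs : Prop :=
  ∀ (A : Type u) [CommRing A] [Algebra R A] (x : A ⊗[R] (Fin n → R)) (u : Aˣ)
    (hu : QuadGrp.baseChangeForm A Q x = u) (y : A ⊗[R] (Fin n → R)) (t : Aˣ)
    (ht : QuadGrp.baseChangeForm A Q y = t) (v : A ⊗[R] (Fin n → R)),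
    g.baseChange R A (Fin n → R) (Fin n → R) (refl (QuadGrp.baseChangeForm A Q) x u hu
        (refl (QuadGrp.baseChangeForm A Q) y t ht v)) =
      refl (QuadGrp.baseChangeForm A Q) x u hu (refl (QuadGrp.baseChangeForm A Q) y t ht
        (g.baseChange R A (Fin n → R) (Fin n → R) v))

theorem aeval_comp_X {σ : Type*} {A : Type u} [CommRing A] [Algebra R A]
    (f : MvPolynomial σ R →ₐ[R] A) (p : MvPolynomial σ R) :
    aeval (fun i => f (X i)) p = f p :=
  (DFunLike.congr_fun (aeval_unique f) p).symm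

theorem Bpol_mul_Wpol_of_commRefl (hB : ∀ m : Ideal R, m.IsMaximal → ∃ k l, polMat Q k l ∉ m)
    (H : CommRefl Q g) (k i j : Fin n) : Bpol Q k * Wpol g i j = 0 := by
  let P := MvPolynomial (Fin n) R
  let A := Localization.Away (qpol Q)
  let f : P →ₐ[R] A := IsScalarTower.toAlgHom R P A
  have hinj : Function.Injective f :=
    IsLocalization.injective A (M := Submonoid.powers (qpol Q))
      (Submonoid.powers_le.mpr (mem_nonZeroDivisors_of_unit_content _ (qpol_content Q hB)))
  let c : Fin n → A := fun i => f (X i)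
  have hev : ∀ p : P, aeval c p = f p := aeval_comp_X f
  have hunit : IsUnit (f (qpol Q)) := IsLocalization.Away.algebraMap_isUnit (qpol Q)
  have hu : QuadGrp.baseChangeForm A Q (vecA A c) = (hunit.unit : A) := by
    rw [qA_vecA, hev, IsUnit.unit_spec]
  have h1 := H A (vecA A c) hunit.unit hu (bA R n A k)
  rw [refl_apply, refl_apply, map_sub, map_smul, sub_right_inj] at h1
  rw [polar_vecA_g_basis, polar_vecA_basis] at h1
  have key : ∀ i, (↑hunit.unit⁻¹ : A) * f (Bpol Q k) * f (Lpol g i) =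
      (↑hunit.unit⁻¹ : A) * f (Gpol Q g k) * f (X i) := by
    intro i
    have := DFunLike.congr_fun (congrArg (bA R n A).repr h1) i
    rw [map_smul, map_smul, Finsupp.smul_apply, Finsupp.smul_apply, repr_g_vecA, vecA_repr,
      smul_eq_mul, smul_eq_mul, hev, hev, hev] at this
    exact this
  apply hinj
  rw [map_zero, map_mul, Wpol, map_sub, map_mul, map_mul]
  have e1 : f (qpol Q) * (↑hunit.unit⁻¹ : A) = 1 := hunit.mul_val_inv
  linear_combination (f (qpol Q) * f (X j)) * key i - (f (qpol Q) * f (X i)) * key j -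
    (f (Bpol Q k) * (f (Lpol g i) * f (X j) - f (Lpol g j) * f (X i))) * e1

/-- Numerator of `r_x g r_x e_k - g e_k`. -/
noncomputable def Epol (i k : Fin n) : MvPolynomial (Fin n) R :=
  qpol Q * Bpol Q k * Lpol g i + (qpol Q * Gpol Q g k - Bpol Q k * Lampol Q g) * X i

theorem Epol_wedge (i j k : Fin n) :
    Epol Q g i k * X j - Epol Q g j k * X i = qpol Q * Bpol Q k * Wpol g i j := by
  rw [Epol, Epol, Wpol]; ring

theorem repr_refl_g_refl {A : Type u} [CommRing A] [Algebra R A] (c : Fin n → A) (u : Aˣ)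
    (hu : QuadGrp.baseChangeForm A Q (vecA A c) = u) (k i : Fin n) :
    (bA R n A).repr (refl (QuadGrp.baseChangeForm A Q) (vecA A c) u hu
      (g.baseChange R A (Fin n → R) (Fin n → R)
        (refl (QuadGrp.baseChangeForm A Q) (vecA A c) u hu (bA R n A k)))) i =
      (bA R n A).repr (g.baseChange R A (Fin n → R) (Fin n → R) (bA R n A k)) i -
        (↑u⁻¹ : A) ^ 2 * aeval c (Epol Q g i k) := by
  have hq : aeval c (qpol Q) = (u : A) := by rw [← qA_vecA, hu]
  rw [refl_apply _ _ _ _ (bA R n A k), map_sub, map_smul, refl_apply,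
    QuadraticMap.polar_sub_right, QuadraticMap.polar_smul_right, polar_vecA_basis,
    polar_vecA_g_basis, polar_vecA_g_vecA]
  simp only [map_sub, map_smul, Finsupp.sub_apply, Finsupp.smul_apply, repr_g_vecA, vecA_repr,
    smul_eq_mul, Epol, map_add, map_mul, aeval_X, hq]
  have e : (↑u⁻¹ : A) * u = 1 := Units.inv_mul u
  linear_combination ((↑u⁻¹ : A) * aeval c (Bpol Q k) * aeval c (Lpol g i) +
    (↑u⁻¹ : A) * aeval c (Gpol Q g k) * c i) * e

theorem Bpol_mul_Wpol_of_commPairs (hn : 3 ≤ n)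
    (hD : ∀ a : Fin n, ∃ d : Fin n → R, ∀ j, ∑ l, d l * polMat Q j l = if j = a then 1 else 0)
    (hB : ∀ m : Ideal R, m.IsMaximal → ∃ k l, polMat Q k l ∉ m)
    (H : CommPairs Q g) (k i j : Fin n) : Bpol Q k * Wpol g i j = 0 := by
  let rl : MvPolynomial (Fin n) R →ₐ[R] (MvPolynomial (Fin n ⊕ Fin n) R) := rename Sum.inl
  let rr : MvPolynomial (Fin n) R →ₐ[R] (MvPolynomial (Fin n ⊕ Fin n) R) := rename Sum.inr
  let qx : (MvPolynomial (Fin n ⊕ Fin n) R) := rl (qpol Q)
  let qw : (MvPolynomial (Fin n ⊕ Fin n) R) := rr (qpol Q)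
  have hqx : qx ∈ nonZeroDivisors (MvPolynomial (Fin n ⊕ Fin n) R) := by
    refine mem_nonZeroDivisors_of_unit_content _ fun m hm => ?_
    obtain ⟨v, hv⟩ := exists_value_notMem Q hB m hm
    refine exists_coeff_notMem_of_eval _ m (Sum.elim v v) ?_
    have e : qx = rename Sum.inl (qpol Q) := rfl
    rw [e, MvPolynomial.eval_rename, Sum.elim_comp_inl, eval_qpol]
    exact hv
  have hqw : qw ∈ nonZeroDivisors (MvPolynomial (Fin n ⊕ Fin n) R) := by
    refine mem_nonZeroDivisors_of_unit_content _ fun m hm => ?_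
    obtain ⟨v, hv⟩ := exists_value_notMem Q hB m hm
    refine exists_coeff_notMem_of_eval _ m (Sum.elim v v) ?_
    have e : qw = rename Sum.inr (qpol Q) := rfl
    rw [e, MvPolynomial.eval_rename, Sum.elim_comp_inr, eval_qpol]
    exact hv
  let A := Localization.Away (qx * qw)
  let f : (MvPolynomial (Fin n ⊕ Fin n) R) →ₐ[R] A := IsScalarTower.toAlgHom R (MvPolynomial (Fin n ⊕ Fin n) R) A
  have hinj : Function.Injective f :=
    IsLocalization.injective A (M := Submonoid.powers (qx * qw))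
      (Submonoid.powers_le.mpr (mul_mem hqx hqw))
  have hunit : IsUnit (f qx) ∧ IsUnit (f qw) := by
    rw [← IsUnit.mul_iff, ← map_mul]
    exact IsLocalization.Away.algebraMap_isUnit (qx * qw)
  obtain ⟨hux, huw⟩ := hunit
  let cx : Fin n → A := fun i => (f.comp rl) (X i)
  let cw : Fin n → A := fun i => (f.comp rr) (X i)
  have hevx : ∀ p, aeval cx p = f (rl p) := aeval_comp_X (f.comp rl)
  have hevw : ∀ p, aeval cw p = f (rr p) := aeval_comp_X (f.comp rr)
  have hu : QuadGrp.baseChangeForm A Q (vecA A cx) = (hux.unit : A) := by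
    rw [qA_vecA, hevx, IsUnit.unit_spec]
  have ht : QuadGrp.baseChangeForm A Q (vecA A cw) = (huw.unit : A) := by
    rw [qA_vecA, hevw, IsUnit.unit_spec]
  -- `E(x) q(w)^2 = E(w) q(x)^2`
  have hE : ∀ i k, rl (Epol Q g i k) * qw ^ 2 = rr (Epol Q g i k) * qx ^ 2 := by
    intro i k
    have h1 := H A _ _ hu _ _ ht (refl _ _ _ ht (bA R n A k))
    rw [refl_refl] at h1
    have h2 := congrArg (refl _ _ _ hu) h1
    rw [refl_refl] at h2
    have h3 := DFunLike.congr_fun (congrArg (bA R n A).repr h2) i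
    rw [repr_refl_g_refl, repr_refl_g_refl, sub_right_inj, hevx, hevw] at h3
    apply hinj
    rw [map_mul, map_mul, map_pow, map_pow]
    have e1 : f qx * (↑hux.unit⁻¹ : A) = 1 := hux.mul_val_inv
    have e2 : f qw * (↑huw.unit⁻¹ : A) = 1 := huw.mul_val_inv
    linear_combination (f qx ^ 2 * f qw ^ 2) * h3 -
      (f (rl (Epol Q g i k)) * f qw ^ 2 * (f qx * (↑hux.unit⁻¹ : A) + 1)) * e1 +
      (f (rr (Epol Q g i k)) * f qx ^ 2 * (f qw * (↑huw.unit⁻¹ : A) + 1)) * e2
  let Φ : Fin n → Fin n → Fin n → (MvPolynomial (Fin n ⊕ Fin n) R) := fun i j k =>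
    rr (Epol Q g i k) * X (Sum.inl j) - rr (Epol Q g j k) * X (Sum.inl i)
  have hrlX : ∀ i, rl (X i) = X (Sum.inl i) := fun i => rename_X _ i
  have hΦ : ∀ i j k, rl (Bpol Q k) * rl (Wpol g i j) * qw ^ 2 = qx * Φ i j k := by
    intro i j k
    apply (isRegular_iff_mem_nonZeroDivisors.mpr hqx).left
    have := congrArg rl (Epol_wedge Q g i j k)
    simp only [map_sub, map_mul, hrlX] at this
    simp only [Φ]
    linear_combination X (Sum.inl j) * hE i k - X (Sum.inl i) * hE j k - qw ^ 2 * this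
  have hcross : ∀ i j k l, rl (Bpol Q l) * Φ i j k = rl (Bpol Q k) * Φ i j l := by
    intro i j k l
    apply (isRegular_iff_mem_nonZeroDivisors.mpr hqx).left
    linear_combination rl (Bpol Q k) * hΦ i j l - rl (Bpol Q l) * hΦ i j k
  -- evaluate `x` at `e_j`
  have hEB : ∀ i j k l, i ≠ j → C (polMat Q j l) * rr (Epol Q g i k) =
      C (polMat Q j k) * rr (Epol Q g i l) := by
    intro i j k l hij
    let ev : (MvPolynomial (Fin n ⊕ Fin n) R) →ₐ[R] (MvPolynomial (Fin n ⊕ Fin n) R) := aeval (Sum.elim (fun a => C (stdVec R j a)) (fun a => X (Sum.inr a)))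
    have hevr : ∀ p, ev (rr p) = rr p := by
      intro p
      simp only [ev, rr, aeval_rename, Sum.elim_comp_inr]
      simpa [rr] using aeval_comp_X rr p
    have hevl : ∀ k, ev (rl (Bpol Q k)) = C (polMat Q j k) := by
      intro k
      simp [ev, rl, Bpol, stdVec, Pi.single_apply]
    have hΦ' : ∀ k, ev (Φ i j k) = rr (Epol Q g i k) := by
      intro k
      simp only [Φ, map_sub, map_mul, hevr]
      simp [ev, stdVec, hij]
    have := congrArg ev (hcross i j k l)
    rwa [map_mul, map_mul, hevl, hevl, hΦ', hΦ'] at this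
  have hzero : ∀ i k, rr (Epol Q g i k) = 0 := by
    intro i k
    have hcard : ((Finset.univ : Finset (Fin n)).erase i).card = n - 1 := by simp
    obtain ⟨j, j', hj, hj', hjj⟩ : ∃ j j', j ≠ i ∧ j' ≠ i ∧ j ≠ j' := by
      obtain ⟨j, hj, j', hj', h⟩ := Finset.one_lt_card.mp
        (show 1 < ((Finset.univ : Finset (Fin n)).erase i).card by omega)
      exact ⟨j, j', (Finset.mem_erase.mp hj).1, (Finset.mem_erase.mp hj').1, h⟩
    have hF : ∀ j, i ≠ j → ∀ a (d : Fin n → R),
        (∀ b, ∑ l, d l * polMat Q b l = if b = a then 1 else 0) →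
        ∀ k, (if j = a then 1 else 0 : (MvPolynomial (Fin n ⊕ Fin n) R)) * rr (Epol Q g i k) =
          C (polMat Q j k) * ∑ l, C (d l) * rr (Epol Q g i l) := by
      intro j hij a d hd k
      have : (if j = a then 1 else 0 : (MvPolynomial (Fin n ⊕ Fin n) R)) = ∑ l, C (d l) * C (polMat Q j l) := by
        simp only [← C_mul, ← map_sum, hd]
        split_ifs <;> simp
      rw [this, Finset.sum_mul, Finset.mul_sum]
      refine Finset.sum_congr rfl fun l _ => ?_
      rw [mul_assoc, hEB i j k l hij]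
      ring
    obtain ⟨d, hd⟩ := hD j'
    have h1 := hF j' hj'.symm j' d hd
    have h2 := hF j hj.symm j' d hd
    simp only [if_pos, if_neg hjj, one_mul, zero_mul] at h1 h2
    have hFz : ∑ l, C (d l) * rr (Epol Q g i l) = 0 := by
      obtain ⟨d', hd'⟩ := hD j
      have : (1 : (MvPolynomial (Fin n ⊕ Fin n) R)) = ∑ l, C (d' l) * C (polMat Q j l) := by
        simp only [← C_mul, ← map_sum, hd', if_pos, C_1]
      rw [← one_mul (∑ l, C (d l) * rr (Epol Q g i l)), this, Finset.sum_mul]
      refine Finset.sum_eq_zero fun k _ => ?_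
      rw [mul_assoc, ← h2 k, mul_zero]
    rw [h1 k, hFz, mul_zero]
  have h0 : rl (Bpol Q k) * rl (Wpol g i j) * qw ^ 2 = 0 := by
    rw [hΦ]
    simp [Φ, hzero]
  have := (mul_right_mem_nonZeroDivisors_eq_zero_iff (pow_mem hqw 2)).mp h0
  rw [← map_mul] at this
  exact rename_injective _ Sum.inl_injective (this.trans (map_zero rl).symm)

theorem baseChange_scalar {A : Type u} [CommRing A] [Algebra R A] {c : R}
    (hc : ∀ v, g v = c • v) (v : A ⊗[R] (Fin n → R)) :
    g.baseChange R A (Fin n → R) (Fin n → R) v = algebraMap R A c • v := by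
  induction v using TensorProduct.induction_on with
  | zero => simp
  | tmul a w => rw [LinearEquiv.baseChange_tmul, hc, TensorProduct.tmul_smul, algebraMap_smul]
  | add a b ha hb => rw [map_add, ha, hb, smul_add]

theorem commute_of_scalar {A : Type u} [CommRing A] [Algebra R A] {c : R}
    (hc : ∀ v, g v = c • v) (h : (A ⊗[R] (Fin n → R)) ≃ₗ[A] (A ⊗[R] (Fin n → R))) :
    g.baseChange R A (Fin n → R) (Fin n → R) * h =
      h * g.baseChange R A (Fin n → R) (Fin n → R) := by
  ext v
  rw [LinearEquiv.mul_apply, LinearEquiv.mul_apply, baseChange_scalar g hc,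
    baseChange_scalar g hc, map_smul]

theorem dual_of_isRegular (hQ : QuadGrp.IsRegular Q) (a : Fin n) :
    ∃ d : Fin n → R, ∀ j, ∑ l, d l * polMat Q j l = if j = a then 1 else 0 := by
  obtain ⟨d, hd⟩ := hQ.2 (LinearMap.proj a)
  refine ⟨d, fun j => ?_⟩
  have := LinearMap.congr_fun hd (stdVec R j)
  rw [← sum_stdVec d] at this
  simp only [map_sum, map_smul, LinearMap.sum_apply, LinearMap.smul_apply,
    QuadraticMap.polarBilin_apply_apply, smul_eq_mul, LinearMap.proj_apply] at this
  simp only [polMat, QuadraticMap.polar_comm Q (stdVec R j)]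
  rw [this]
  simp [stdVec, Pi.single_apply, eq_comm]

theorem content_of_isRegular (hn : 0 < n) (hQ : QuadGrp.IsRegular Q) (m : Ideal R)
    (hm : m.IsMaximal) : ∃ k l, polMat Q k l ∉ m := by
  obtain ⟨d, hd⟩ := dual_of_isRegular Q hQ ⟨0, hn⟩
  by_contra h
  push Not at h
  refine hm.ne_top ((Ideal.eq_top_iff_one _).mpr ?_)
  have : ∑ l, d l * polMat Q ⟨0, hn⟩ l ∈ m := sum_mem fun l _ => Ideal.mul_mem_left _ _ (h _ _)
  rwa [hd, if_pos rfl] at this

theorem content_of_isSemiregular (hn : 3 ≤ n)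
    (hQ : QuadGrp.IsSemiregular (Pi.basisFun R (Fin n)) (LinearEquiv.refl R R) Q) (m : Ideal R)
    (hm : m.IsMaximal) : ∃ k l, polMat Q k l ∉ m := by
  classical
  by_contra h
  push Not at h
  let cf := QuadGrp.coeffs (Pi.basisFun R (Fin n)) (LinearEquiv.refl R R) Q
  have hoff : ∀ v : Sym2 (Fin n), ¬ v.IsDiag → cf v ∈ m := by
    intro v
    induction v using Sym2.inductionOn with
    | hf a b =>
      intro hv
      rw [Sym2.mk_isDiag_iff] at hv
      simp only [cf, QuadGrp.coeffs_mk, if_neg hv, Pi.basisFun_apply, LinearEquiv.refl_apply]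
      exact h a b
  have hdiag : ∀ v : Sym2 (Fin n), v.IsDiag → 2 * cf v ∈ m := by
    intro v
    induction v using Sym2.inductionOn with
    | hf a b =>
      intro hv
      rw [Sym2.mk_isDiag_iff] at hv
      subst hv
      simp only [cf, QuadGrp.coeffs_mk, if_pos, Pi.basisFun_apply, LinearEquiv.refl_apply]
      have := h a a
      rwa [polMat, stdVec, polar_self_eq] at this
  refine hm.ne_top (Ideal.eq_top_of_isUnit_mem _ ?_ hQ)
  rw [QuadGrp.halfDisc, eval₂_eq]
  refine Ideal.sum_mem _ fun s hs => ?_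
  by_cases hex : ∃ v ∈ s.support, ¬ v.IsDiag
  · obtain ⟨v, hv, hv'⟩ := hex
    refine Ideal.mul_mem_left _ _ ?_
    rw [← Finset.mul_prod_erase _ _ hv]
    exact Ideal.mul_mem_right _ _ (Ideal.pow_mem_of_mem _ (hoff v hv') _
      (Nat.pos_of_ne_zero (Finsupp.mem_support_iff.mp hv)))
  push Not at hex
  let κ : MvPolynomial (Sym2 (Fin n)) ℤ →ₐ[ℤ] MvPolynomial (Sym2 (Fin n)) ℤ :=
    aeval fun v => if v.IsDiag then X v else 0
  have hκ : ∀ p, coeff s (κ p) = coeff s p := by
    intro p
    induction p using MvPolynomial.induction_on' with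
    | monomial t c =>
      by_cases ht : ∃ v ∈ t.support, ¬ v.IsDiag
      · obtain ⟨v, hv, hv'⟩ := ht
        have : κ (monomial t c) = 0 := by
          simp only [κ, aeval_monomial]
          rw [Finsupp.prod, Finset.prod_eq_zero hv (by
            rw [if_neg hv', zero_pow (Finsupp.mem_support_iff.mp hv)]), mul_zero]
        rw [this, coeff_zero, coeff_monomial, if_neg]
        rintro rfl
        exact hv' (hex v hv)
      · push Not at ht
        congr 1
        simp only [κ]
        rw [aeval_monomial, algebraMap_eq, monomial_eq]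
        congr 1
        exact Finset.prod_congr rfl fun v hv => by simp [ht v hv]
    | add p q hp hq => rw [map_add, coeff_add, coeff_add, hp, hq]
  have hmat : κ.mapMatrix (QuadGrp.univPolarMat n) =
      Matrix.diagonal fun a => 2 * X (Sym2.mk a a) := by
    ext a b
    by_cases hab : a = b
    · subst hab
      simp [QuadGrp.univPolarMat, κ, map_ofNat]
    · simp [QuadGrp.univPolarMat, κ, hab]
  have h4 : (4 : ℤ) ∣ coeff s (QuadGrp.discUniv n) := by
    rw [← hκ, QuadGrp.discUniv, AlgHom.map_det, hmat, Matrix.det_diagonal, Finset.prod_mul_distrib,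
      Finset.prod_const, Finset.card_univ, Fintype.card_fin]
    have e : (2 : MvPolynomial (Sym2 (Fin n)) ℤ) ^ n = C ((2 : ℤ) ^ n) := by
      rw [map_pow, map_ofNat]
    rw [e, coeff_C_mul]
    exact dvd_mul_of_dvd_left ((pow_dvd_pow 2 (show 2 ≤ n by omega))) _
  obtain ⟨c, hc⟩ := h4
  have hcoef : coeff s (QuadGrp.halfDiscUniv n) = 2 * c := by
    rw [QuadGrp.coeff_halfDiscUniv, hc]
    omega
  by_cases hs0 : s.support = ∅
  · rw [Finsupp.support_eq_empty] at hs0
    subst hs0
    rw [mem_support_iff] at hs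
    apply absurd _ hs
    rw [QuadGrp.coeff_halfDiscUniv, ← hκ, QuadGrp.discUniv, AlgHom.map_det, hmat,
      Matrix.det_diagonal, ← constantCoeff_eq, map_prod,
      Finset.prod_eq_zero (Finset.mem_univ (⟨0, by omega⟩ : Fin n)) (by simp)]
    rfl
  obtain ⟨v, hv⟩ := Finset.nonempty_iff_ne_empty.mpr hs0
  rw [hcoef, ← Finset.mul_prod_erase _ _ hv,
    ← Nat.sub_add_cancel (Nat.pos_of_ne_zero (Finsupp.mem_support_iff.mp hv)), pow_succ]
  have hmul := Ideal.mul_mem_left m ((Int.castRingHom R) c * cf v ^ (s v - 1) *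
    ∏ a ∈ s.support.erase v, cf a ^ s a) (hdiag v (hex v hv))
  convert hmul using 1
  simp only [map_mul, map_ofNat, cf]
  ring

theorem content_of_isNondeg (hn : 3 ≤ n)
    (hQ : QuadGrp.IsNondeg (Pi.basisFun R (Fin n)) (LinearEquiv.refl R R) Q) (m : Ideal R)
    (hm : m.IsMaximal) : ∃ k l, polMat Q k l ∉ m := by
  rcases Nat.even_or_odd n with h | h
  · exact content_of_isRegular Q (by omega) (hQ.1 h) m hm
  · exact content_of_isSemiregular Q hn (hQ.2 h) m hm

end Groth.Agent.QuadCentre
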