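import Mathlib.RingTheory.MvPolynomial.MonomialOrder
import Mathlib.Data.Finsupp.MonomialOrder
import Mathlib.RingTheory.Nakayama
import Mathlib.RingTheory.Ideal.Maximal
import Mathlib.Data.Fintype.Sort
import Mathlib.Algebra.MvPolynomial.Eval

set_option autoImplicit false

namespace Groth.Agent.QuadCentre

open MvPolynomial

variable {R : Type*} [CommRing R] {σ : Type*}

theorem exists_coeff_notMem_of_eval (f : MvPolynomial σ R) (m : Ideal R) (a : σ → R)
    (h : MvPolynomial.eval a f ∉ m) : ∃ d, coeff d f ∉ m := by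
  by_contra hc
  push Not at hc
  apply h
  rw [MvPolynomial.eval_eq]
  exact Ideal.sum_mem _ fun d _ => Ideal.mul_mem_right _ _ (hc d)

variable [Finite σ]

theorem eq_zero_of_unit_content {ι : Type*} (f : ι → MvPolynomial σ R) (P : MvPolynomial σ R)
    (hf : ∀ m : Ideal R, m.IsMaximal → ∃ k d, coeff d (f k) ∉ m)
    (hP : ∀ k, f k * P = 0) : P = 0 := by
  classical
  haveI : Fintype σ := Fintype.ofFinite σ
  letI : LinearOrder σ := LinearOrder.lift' (Fintype.equivFin σ) (Fintype.equivFin σ).injective
  let mo : MonomialOrder σ := MonomialOrder.lex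
  let I : Ideal R := Ideal.span (Set.range fun d : P.support => coeff (d : σ →₀ ℕ) P)
  have hmemI : ∀ d, coeff d P ∈ I := by
    intro d
    by_cases hd : d ∈ P.support
    · exact Ideal.subset_span ⟨⟨d, hd⟩, rfl⟩
    · simp [notMem_support_iff.mp hd]
  suffices hI : ∀ r ∈ I, r = 0 by
    ext d
    simpa using hI _ (hmemI d)
  have hfg : I.FG := Submodule.fg_span (Set.finite_range _)
  have hann : I.annihilator = ⊤ := by
    by_contra hne
    obtain ⟨m, hm, hle⟩ := Ideal.exists_le_maximal _ hne
    have key : I ≤ m • I := by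
      by_contra hnot
      have hex : ∃ d, coeff d P ∉ m • I := by
        by_contra hall
        push Not at hall
        exact hnot (Ideal.span_le.mpr (by rintro _ ⟨d, rfl⟩; exact hall d))
      obtain ⟨k, df, hdf⟩ := hf m hm
      let Sf := (f k).support.filter fun d => coeff d (f k) ∉ m
      let Sp := P.support.filter fun d => coeff d P ∉ m • I
      have hSf : Sf.Nonempty := ⟨df, Finset.mem_filter.mpr ⟨mem_support_iff.mpr
        (fun h => hdf (h ▸ Submodule.zero_mem _)), hdf⟩⟩
      have hSp : Sp.Nonempty := by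
        obtain ⟨d, hd⟩ := hex
        exact ⟨d, Finset.mem_filter.mpr ⟨mem_support_iff.mpr
          (fun h => hd (h ▸ Submodule.zero_mem _)), hd⟩⟩
      obtain ⟨a, ha, hamax⟩ := Finset.exists_max_image Sf mo.toSyn hSf
      obtain ⟨b, hb, hbmax⟩ := Finset.exists_max_image Sp mo.toSyn hSp
      have ha' := (Finset.mem_filter.mp ha).2
      have hb' := (Finset.mem_filter.mp hb).2
      have h0 : coeff (a + b) (f k * P) = 0 := by rw [hP k, coeff_zero]
      rw [coeff_mul] at h0
      have hmem : (a, b) ∈ Finset.antidiagonal (a + b) := Finset.mem_antidiagonal.mpr rfl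
      rw [← Finset.add_sum_erase _ _ hmem] at h0
      have hrest : ∑ x ∈ (Finset.antidiagonal (a + b)).erase (a, b),
          coeff x.1 (f k) * coeff x.2 P ∈ m • I := by
        refine Submodule.sum_mem _ ?_
        rintro ⟨a', b'⟩ hx
        obtain ⟨hne', hx'⟩ := Finset.mem_erase.mp hx
        have hsum : a' + b' = a + b := Finset.mem_antidiagonal.mp hx'
        dsimp only
        by_cases h1 : coeff a' (f k) ∈ m
        · exact Submodule.smul_mem_smul h1 (hmemI b')
        by_cases h2 : coeff b' P ∈ m • I
        · exact Ideal.mul_mem_left _ _ h2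
        exfalso
        have e1 : mo.toSyn a' ≤ mo.toSyn a := hamax a' (Finset.mem_filter.mpr
          ⟨mem_support_iff.mpr (fun h => h1 (h ▸ Submodule.zero_mem _)), h1⟩)
        have e2 : mo.toSyn b' ≤ mo.toSyn b := hbmax b' (Finset.mem_filter.mpr
          ⟨mem_support_iff.mpr (fun h => h2 (h ▸ Submodule.zero_mem _)), h2⟩)
        have e3 : mo.toSyn a' + mo.toSyn b' = mo.toSyn a + mo.toSyn b := by
          rw [← map_add, ← map_add, hsum]
        have := (add_eq_add_iff_eq_and_eq e1 e2).mp e3
        exact hne' (Prod.ext (mo.toSyn.injective this.1) (mo.toSyn.injective this.2))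
      have hab : coeff a (f k) * coeff b P ∈ m • I := by
        rw [eq_neg_of_add_eq_zero_left h0]
        exact Submodule.neg_mem _ hrest
      obtain ⟨u, r, hr, hu⟩ := hm.exists_inv ha'
      apply hb'
      have : coeff b P = u * (coeff a (f k) * coeff b P) + r * coeff b P := by
        rw [← mul_assoc, ← add_mul, hu, one_mul]
      rw [this]
      exact Submodule.add_mem _ (Ideal.mul_mem_left _ _ hab)
        (Submodule.smul_mem_smul hr (hmemI b))
    obtain ⟨r, hr1, hr2⟩ := Submodule.exists_sub_one_mem_and_smul_eq_zero_of_fg_of_le_smul m I hfg key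
    have : r ∈ m := hle (Submodule.mem_annihilator.mpr fun x hx => hr2 x hx)
    exact hm.ne_top (m.eq_top_iff_one.mpr (by simpa using m.sub_mem this hr1))
  intro r hr
  have : (1 : R) ∈ I.annihilator := hann ▸ Submodule.mem_top
  simpa using Submodule.mem_annihilator.mp this r hr

theorem mem_nonZeroDivisors_of_unit_content (f : MvPolynomial σ R)
    (hf : ∀ m : Ideal R, m.IsMaximal → ∃ d, coeff d f ∉ m) :
    f ∈ nonZeroDivisors (MvPolynomial σ R) := by
  rw [mem_nonZeroDivisors_iff_right]
  intro P hP
  exact eq_zero_of_unit_content (fun _ : Unit => f) P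
    (fun m hm => ⟨(), hf m hm⟩) (fun _ => by rwa [mul_comm] at hP)

end Groth.Agent.QuadCentre
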